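import Mathlib

set_option autoImplicit false

/-! Arithmetic lemmas for the comparison of maximal subgroups of `PGL₂(q)` and `PSL₂(q)`. -/

namespace Cfsg.Agent.Lib.Helper5.PGL2Meet

theorem psl_lt_pow (w s : ℕ) (hw : 2 ≤ w) (hs : 3 ≤ s) : w * ((w - 1) * (w + 1)) < w ^ s := by
  obtain ⟨v, rfl⟩ : ∃ v, w = v + 1 := ⟨w - 1, by omega⟩
  have h1 : (v + 1) * ((v + 1 - 1) * (v + 1 + 1)) < (v + 1) ^ 3 := by
    simp only [Nat.add_sub_cancel]; nlinarith
  exact lt_of_lt_of_le h1 (Nat.pow_le_pow_right (by omega) hs)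

theorem m1_k2 (t c d : ℕ) (ht : 4 ≤ t) (hc : 2 * c = (t + 1) * t) (hd : d = t) (hlt : c < d) :
    False := by nlinarith

theorem m1_k3 (t c d : ℕ) (ht : 4 ≤ t) (hc : 2 * c = (t + 1) * t) (hd : d = t + 2)
    (hlt : c < d) : False := by nlinarith

theorem three_le_of_sq (t w : ℕ) (ht : 4 ≤ t) (hq : t + 1 = w ^ 2) : 3 ≤ w := by
  by_contra h
  have : w ≤ 2 := by omega
  interval_cases w <;> omega

theorem m1_k4 (t c d w : ℕ) (ht : 4 ≤ t) (hq : t + 1 = w ^ 2) (hc : 2 * c = (t + 1) * t)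
    (hd : d = w * ((w - 1) * (w + 1))) (hlt : c < d) : False := by
  have hw := three_le_of_sq t w ht hq
  obtain ⟨v, rfl⟩ : ∃ v, w = v + 1 := ⟨w - 1, by omega⟩
  simp only [Nat.add_sub_cancel] at hd
  have ht' : t = v * (v + 1 + 1) := by nlinarith
  have hA : 0 < v * (v + 1 + 1) := Nat.mul_pos (by omega) (by omega)
  have h1 : 2 * c = (v + 1) * ((v + 1) * (v * (v + 1 + 1))) := by
    rw [hc, hq, ht']; ring
  have h2 : (v + 1) * ((v + 1) * (v * (v + 1 + 1))) < 2 * ((v + 1) * (v * (v + 1 + 1))) := by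
    rw [← h1, ← hd]; omega
  have h3 : v + 1 < 2 := Nat.lt_of_mul_lt_mul_right h2
  omega

theorem m1_k5 (t c d w s : ℕ) (ht : 4 ≤ t) (hs : 3 ≤ s) (hq : t + 1 = w ^ s)
    (hc : 2 * c = (t + 1) * t) (hd : 2 * d = w * ((w - 1) * (w + 1))) (hlt : c < d) : False := by
  have hw : 2 ≤ w := by
    by_contra h
    have : w ≤ 1 := by omega
    interval_cases w
    · rw [zero_pow (by omega)] at hq; omega
    · rw [one_pow] at hq; omega
  have h1 := psl_lt_pow w s hw hs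
  rw [← hq, ← hd] at h1
  nlinarith

theorem m1_k6 (t c d : ℕ) (ht : 4 ≤ t) (hev : t % 2 = 0) (h7 : t + 1 ≠ 7) (h9 : t + 1 ≠ 9)
    (h11 : t + 1 ≠ 11) (hc : 2 * c = (t + 1) * t) (hd : d = 60) (hlt : c < d)
    (hG : 2 * d < (t + 1) * (t * (t + 2))) : False := by
  have h1 : t ≤ 10 := by
    by_contra h
    have : 11 ≤ t := by omega
    nlinarith
  interval_cases t <;> omega

theorem m1_k7 (t c d : ℕ) (ht : 4 ≤ t) (hev : t % 2 = 0) (hc : 2 * c = (t + 1) * t)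
    (hd : d = 12) (hcd : c ∣ d) (hlt : c < d) : False := by
  have h1 : t ≤ 4 := by
    by_contra h
    have : 5 ≤ t := by omega
    nlinarith
  have h2 : t = 4 := by omega
  subst h2
  have h3 : c = 10 := by omega
  subst h3 hd
  omega

theorem m1_k8 (t c d : ℕ) (ht : 4 ≤ t) (hev : t % 2 = 0) (h7 : t + 1 ≠ 7)
    (hc : 2 * c = (t + 1) * t) (hd : d = 24) (hcd : c ∣ d) (hlt : c < d) : False := by
  have h1 : t ≤ 6 := by
    by_contra h
    have : 7 ≤ t := by omega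
    nlinarith
  have h2 : t = 4 := by omega
  subst h2
  have h3 : c = 10 := by omega
  subst h3 hd
  omega

theorem m2_k1 (t c d : ℕ) (ht : 4 ≤ t) (hev : t % 2 = 0) (hc : c = t) (hd : 2 * d = (t + 1) * t)
    (hcd : c ∣ d) : False := by
  obtain ⟨k, hk⟩ := hcd
  rw [hk, hc] at hd
  have h1 : t * (2 * k) = t * (t + 1) := by nlinarith
  have h2 : 2 * k = t + 1 := Nat.eq_of_mul_eq_mul_left (by omega) h1
  omega

theorem m2_k3 (t c d : ℕ) (ht : 4 ≤ t) (hc : c = t) (hd : d = t + 2) (hcd : c ∣ d) : False := by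
  rw [hc, hd] at hcd
  have h1 : t ∣ 2 := (Nat.dvd_add_right (dvd_refl t)).mp hcd
  have := Nat.le_of_dvd (by norm_num) h1
  omega

/-- the order of the cyclic part of the dihedral subgroup is too large for `PGL₂(q₁)` -/
theorem m2_k4 (t w n : ℕ) (ht : 4 ≤ t) (h9 : t + 1 ≠ 9) (hodd : (t + 1) % 2 = 1)
    (hq : t + 1 = w ^ 2) (hn : n = t / 2) (h : n ∣ w * (w - 1) ∨ n ≤ w + 1) : False := by
  have hw := three_le_of_sq t w ht hq
  have hw3 : w ≠ 3 := by rintro rfl; omega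
  have hwodd : w % 2 = 1 := by
    by_contra hne
    have h0 : w % 2 = 0 := by omega
    have : (w ^ 2) % 2 = 0 := by rw [pow_two, Nat.mul_mod, h0]
    omega
  obtain ⟨u, rfl⟩ : ∃ u, w = 2 * u + 1 := ⟨w / 2, by omega⟩
  have hu : 2 ≤ u := by omega
  have ht' : t = 4 * (u * (u + 1)) := by nlinarith
  have hn' : n = 2 * (u * (u + 1)) := by omega
  rcases h with h | h
  · have e1 : (2 * u + 1) * (2 * u + 1 - 1) = (2 * u) * (2 * u + 1) := by
      simp only [Nat.add_sub_cancel]; ring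
    have e2 : n = (2 * u) * (u + 1) := by rw [hn']; ring
    rw [e1, e2] at h
    have h1 : u + 1 ∣ 2 * u + 1 := Nat.dvd_of_mul_dvd_mul_left (by omega) h
    have h2 : u + 1 ∣ u := by
      have : 2 * u + 1 = (u + 1) + u := by ring
      rw [this] at h1
      exact (Nat.dvd_add_right (dvd_refl _)).mp h1
    have := Nat.le_of_dvd (by omega) h2
    omega
  · nlinarith

theorem m2_k5 (t c d w s : ℕ) (ht : 4 ≤ t) (hs : 3 ≤ s) (hq : t + 1 = w ^ s)
    (hc : t ≤ c) (hd : 2 * d = w * ((w - 1) * (w + 1))) (hlt : c < d) : False := by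
  have hw : 2 ≤ w := by
    by_contra h
    have : w ≤ 1 := by omega
    interval_cases w
    · rw [zero_pow (by omega)] at hq; omega
    · rw [one_pow] at hq; omega
  have h1 := psl_lt_pow w s hw hs
  rw [← hq, ← hd] at h1
  omega

/-- the possible values of `q - 1` dividing `60` -/
theorem m2_k6 (t : ℕ) (ht : 4 ≤ t) (hev : t % 2 = 0) (h11 : t + 1 ≠ 11)
    (h10 : (t + 1) % 10 = 1 ∨ (t + 1) % 10 = 9) (hcd : t ∣ 60) (hlt : t < 60) :
    t / 2 = 10 ∨ t / 2 = 15 := by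
  interval_cases t <;> omega

theorem m2_k7 (t : ℕ) (ht : 4 ≤ t) (hev : t % 2 = 0) (h5 : t + 1 ≠ 5) (h7 : t + 1 ≠ 7)
    (hcd : t ∣ 12) (hlt : t < 12) : False := by
  interval_cases t <;> omega

theorem m2_k8 (t : ℕ) (ht : 4 ≤ t) (hev : t % 2 = 0) (h5 : t + 1 ≠ 5) (h7 : t + 1 ≠ 7)
    (h9 : t + 1 ≠ 9) (h8 : (t + 1) % 8 = 1 ∨ (t + 1) % 8 = 7) (hcd : t ∣ 24) (hlt : t < 24) :
    False := by
  interval_cases t <;> omega

theorem m3_k1 (t c d : ℕ) (ht : 4 ≤ t) (hc : c = t + 2) (hd : 2 * d = (t + 1) * t)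
    (hcd : c ∣ d) : False := by
  have h1 : t + 2 ∣ (t + 1) * t := by
    rw [← hd, ← hc]; exact Dvd.dvd.mul_left hcd 2
  have h2 : (t + 1) * t + 2 * (t + 2) = (t + 2) * (t + 1) + 2 := by ring
  have h3 : t + 2 ∣ (t + 2) * (t + 1) + 2 := by
    rw [← h2]; exact Dvd.dvd.add h1 (Dvd.intro_left 2 rfl)
  have h4 : t + 2 ∣ 2 := (Nat.dvd_add_right (Dvd.intro (t + 1) rfl)).mp h3
  have := Nat.le_of_dvd (by norm_num) h4
  omega

theorem m3_k4 (t c d w : ℕ) (ht : 4 ≤ t) (hq : t + 1 = w ^ 2) (hc : c = t + 2)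
    (hd : d = w * ((w - 1) * (w + 1))) (hcd : c ∣ d) : False := by
  have hw := three_le_of_sq t w ht hq
  obtain ⟨v, rfl⟩ : ∃ v, w = v + 1 := ⟨w - 1, by omega⟩
  simp only [Nat.add_sub_cancel] at hd
  have hc' : c = (v + 1) ^ 2 + 1 := by omega
  have e : d + 2 * (v + 1) = (v + 1) * c := by rw [hd, hc']; ring
  have h1 : c ∣ d + 2 * (v + 1) := by rw [e]; exact Dvd.intro_left _ rfl
  have h2 : c ∣ 2 * (v + 1) := (Nat.dvd_add_right hcd).mp h1
  have := Nat.le_of_dvd (by omega) h2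
  nlinarith

theorem m3_k6 (t : ℕ) (ht : 4 ≤ t) (hev : t % 2 = 0) (h9 : t + 1 ≠ 9) (h11 : t + 1 ≠ 11)
    (h10 : (t + 1) % 10 = 1 ∨ (t + 1) % 10 = 9) (hcd : t + 2 ∣ 60) (hlt : t + 2 < 60) :
    (t + 2) / 2 = 10 ∨ (t + 2) / 2 = 15 := by
  have : t ≤ 57 := by omega
  interval_cases t <;> omega

theorem m3_k7 (t : ℕ) (ht : 4 ≤ t) (hev : t % 2 = 0) (hcd : t + 2 ∣ 12) (hlt : t + 2 < 12) :
    t = 4 := by
  have : t ≤ 9 := by omega
  interval_cases t <;> omega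

theorem m3_k8 (t : ℕ) (ht : 4 ≤ t) (hev : t % 2 = 0) (h7 : t + 1 ≠ 7)
    (h8 : (t + 1) % 8 = 1 ∨ (t + 1) % 8 = 7) (hcd : t + 2 ∣ 24) (hlt : t + 2 < 24) : False := by
  have : t ≤ 21 := by omega
  interval_cases t <;> omega

theorem m4_k1 (t d : ℕ) (h8 : (t + 1) % 8 = 3 ∨ (t + 1) % 8 = 5) (hd : 2 * d = (t + 1) * t)
    (hcd : 12 ∣ d) : False := by
  obtain ⟨k, rfl⟩ := hcd
  have h1 : ((t + 1) * t) % 8 = 0 := by rw [← hd]; omega
  rw [Nat.mul_mod] at h1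
  have h2 : t % 8 = 2 ∨ t % 8 = 4 := by omega
  rcases h8 with h | h <;> rcases h2 with h' | h' <;> rw [h, h'] at h1 <;> omega

theorem m4_k6 (q : ℕ) (h8 : q % 8 = 3 ∨ q % 8 = 5) (h10 : q % 10 = 1 ∨ q % 10 = 9)
    (h40 : q % 40 ∉ ({11, 19, 21, 29} : Finset ℕ)) : False := by
  apply h40
  simp only [Finset.mem_insert, Finset.mem_singleton]
  omega

theorem coprime_succ_self (w : ℕ) : Nat.Coprime (w + 1) w :=
  (Nat.coprime_self_add_left).mpr (Nat.coprime_one_left w)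

theorem succ_dvd_pow_succ (w r : ℕ) (hr : Odd r) : w + 1 ∣ w ^ r + 1 := by
  have := Odd.nat_add_dvd_pow_add_pow w 1 hr
  simpa using this

theorem two_le_of_pow (q w r : ℕ) (h5 : 5 ≤ q) (hr : r ≠ 0) (hq : q = w ^ r) : 2 ≤ w := by
  by_contra h
  have : w ≤ 1 := by omega
  interval_cases w
  · rw [zero_pow hr] at hq; omega
  · rw [one_pow] at hq; omega

theorem odd_of_pow (q w r : ℕ) (hodd : q % 2 = 1) (hr : r ≠ 0) (hq : q = w ^ r) : w % 2 = 1 := by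
  have h1 : Odd (w ^ r) := by rw [← hq]; exact Nat.odd_iff.mpr hodd
  exact Nat.odd_iff.mp ((Nat.odd_pow_iff hr).mp h1)

theorem m5_k1 (q c d w r : ℕ) (hw : 2 ≤ w) (hr : Odd r) (hq : q = w ^ r)
    (hc : 2 * c = w * ((w - 1) * (w + 1))) (hd : 2 * d = q * (q - 1)) (hcd : c ∣ d) : False := by
  have hq1 : 1 ≤ q := by rw [hq]; exact Nat.one_le_pow _ _ (by omega)
  have h1 : w + 1 ∣ 2 * c := by
    rw [hc]; exact Dvd.intro_left (w * (w - 1)) (by ring)
  have h2 : w + 1 ∣ q * (q - 1) := by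
    rw [← hd]; exact dvd_trans h1 (Nat.mul_dvd_mul_left 2 hcd)
  have h3 : w + 1 ∣ q + 1 := by rw [hq]; exact succ_dvd_pow_succ w r hr
  have h4 : q * (q - 1) + 2 * q = q * (q + 1) := by
    obtain ⟨k, rfl⟩ : ∃ k, q = k + 1 := ⟨q - 1, by omega⟩
    simp only [Nat.add_sub_cancel]; ring
  have h5 : w + 1 ∣ q * (q - 1) + 2 * q := by rw [h4]; exact Dvd.dvd.mul_left h3 q
  have h6 : w + 1 ∣ 2 * q := (Nat.dvd_add_right h2).mp h5
  have hcop : Nat.Coprime (w + 1) q := by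
    rw [hq]; exact Nat.Coprime.pow_right r (coprime_succ_self w)
  have h7 : w + 1 ∣ 2 := Nat.Coprime.dvd_of_dvd_mul_right hcop h6
  have := Nat.le_of_dvd (by norm_num) h7
  omega

theorem m5_k23 (q c d w r : ℕ) (hw : 2 ≤ w) (hwodd : w % 2 = 1) (hr : r ≠ 0) (hq : q = w ^ r)
    (hc : 2 * c = w * ((w - 1) * (w + 1))) (hd : d + 1 = q ∨ d = q + 1) (hcd : c ∣ d) :
    False := by
  have h1 : w ∣ 2 * c := by rw [hc]; exact Dvd.intro _ rfl
  have h2 : w ∣ 2 * d := dvd_trans h1 (Nat.mul_dvd_mul_left 2 hcd)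
  have hcop : Nat.Coprime w 2 := by
    rw [Nat.coprime_comm, Nat.Prime.coprime_iff_not_dvd Nat.prime_two]
    omega
  have h3 : w ∣ d := Nat.Coprime.dvd_of_dvd_mul_left hcop h2
  have h4 : w ∣ q := by rw [hq]; exact dvd_pow_self w hr
  have h5 : w ∣ 1 := by
    rcases hd with hd | hd
    · rw [← hd] at h4
      exact (Nat.dvd_add_right h3).mp h4
    · rw [hd] at h3
      exact (Nat.dvd_add_right h4).mp h3
  have := Nat.le_of_dvd (by norm_num) h5
  omega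

theorem three_pow_mod_four (r : ℕ) (hr : Odd r) : 3 ^ r % 4 = 3 := by
  obtain ⟨k, rfl⟩ := hr
  rw [pow_succ, pow_mul, Nat.mul_mod, Nat.pow_mod]
  norm_num

theorem sq_mod_four (v : ℕ) : v ^ 2 % 4 = 0 ∨ v ^ 2 % 4 = 1 := by
  rw [pow_two, Nat.mul_mod]
  have : v % 4 < 4 := Nat.mod_lt _ (by norm_num)
  interval_cases v % 4 <;> simp

theorem three_pow_ne_sq (r v : ℕ) (hr : Odd r) (h : 3 ^ r = v ^ 2) : False := by
  have h1 := three_pow_mod_four r hr
  have h2 := sq_mod_four v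
  rw [h] at h1
  omega

theorem m5_k4 (q c d w r v : ℕ) (hw : 2 ≤ w) (hwodd : w % 2 = 1) (hr : Odd r) (hq : q = w ^ r)
    (hqv : q = v ^ 2) (hc : 2 * c = w * ((w - 1) * (w + 1)))
    (hd : d = v * ((v - 1) * (v + 1))) (hcd : c ∣ d) : False := by
  have hq1 : 1 ≤ q := by rw [hq]; exact Nat.one_le_pow _ _ (by omega)
  have hv1 : 1 ≤ v := by
    by_contra h
    have : v = 0 := by omega
    rw [this] at hqv
    norm_num at hqv
    omega
  have hvq : (v - 1) * (v + 1) = q - 1 := by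
    obtain ⟨k, rfl⟩ : ∃ k, v = k + 1 := ⟨v - 1, by omega⟩
    rw [hqv]
    simp only [Nat.add_sub_cancel]
    have : (k + 1) ^ 2 = k * (k + 1 + 1) + 1 := by ring
    rw [this, Nat.add_sub_cancel]
  rw [hvq] at hd
  have h1 : w + 1 ∣ 2 * c := by
    rw [hc]; exact Dvd.intro_left (w * (w - 1)) (by ring)
  have h2 : w + 1 ∣ 2 * (q - 1) * v := by
    have : 2 * d = 2 * (q - 1) * v := by rw [hd]; ring
    rw [← this]; exact dvd_trans h1 (Nat.mul_dvd_mul_left 2 hcd)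
  have hcop : Nat.Coprime (w + 1) v := by
    have h3 : Nat.Coprime (w + 1) (v ^ 2) := by
      rw [← hqv, hq]; exact Nat.Coprime.pow_right r (coprime_succ_self w)
    exact Nat.Coprime.coprime_dvd_right (dvd_pow_self v (by norm_num)) h3
  have h4 : w + 1 ∣ 2 * (q - 1) := Nat.Coprime.dvd_of_dvd_mul_right hcop h2
  have h5 : w + 1 ∣ q + 1 := by rw [hq]; exact succ_dvd_pow_succ w r hr
  have h6 : w + 1 ∣ 2 * (q - 1) + 4 := by
    have : 2 * (q - 1) + 4 = 2 * (q + 1) := by omega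
    rw [this]; exact Dvd.dvd.mul_left h5 2
  have h7 : w + 1 ∣ 4 := (Nat.dvd_add_right h4).mp h6
  have h8 := Nat.le_of_dvd (by norm_num) h7
  have hw3 : w = 3 := by omega
  rw [hw3] at hq
  exact three_pow_ne_sq r v hr (by rw [← hq, hqv])

theorem pred_mul_succ (w : ℕ) (hw : 1 ≤ w) : (w - 1) * (w + 1) = w ^ 2 - 1 := by
  obtain ⟨k, rfl⟩ : ∃ k, w = k + 1 := ⟨w - 1, by omega⟩
  simp only [Nat.add_sub_cancel]
  have : (k + 1) ^ 2 = k * (k + 1 + 1) + 1 := by ring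
  rw [this, Nat.add_sub_cancel]

/-- two subfield subgroups for different prime degrees are not comparable -/
theorem m5_k5 (p f q c d w r v s : ℕ) (hp : p.Prime) (hqp : q = p ^ f) (hw : 2 ≤ w)
    (hv : 2 ≤ v) (hr : r.Prime) (hs : s.Prime) (hq : q = w ^ r) (hqv : q = v ^ s)
    (hc : 2 * c = w * ((w - 1) * (w + 1))) (hd : 2 * d = v * ((v - 1) * (v + 1)))
    (hcd : c ∣ d) (hlt : c < d) : False := by
  have hp2 : 2 ≤ p := hp.two_le
  obtain ⟨a, -, ha⟩ := (Nat.dvd_prime_pow hp).mp (show w ∣ p ^ f by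
    rw [← hqp, hq]; exact dvd_pow_self w hr.ne_zero)
  obtain ⟨b, -, hb⟩ := (Nat.dvd_prime_pow hp).mp (show v ∣ p ^ f by
    rw [← hqp, hqv]; exact dvd_pow_self v hs.ne_zero)
  have ha0 : a ≠ 0 := by
    rintro rfl
    rw [pow_zero] at ha; omega
  have hb0 : b ≠ 0 := by
    rintro rfl
    rw [pow_zero] at hb; omega
  have hars : a * r = b * s := by
    apply Nat.pow_right_injective hp2
    show p ^ (a * r) = p ^ (b * s)
    rw [pow_mul, pow_mul, ← ha, ← hb, ← hq, ← hqv]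
  -- divisibility of the parts prime to `p`
  have h1 : w * ((w - 1) * (w + 1)) ∣ v * ((v - 1) * (v + 1)) := by
    rw [← hc, ← hd]; exact Nat.mul_dvd_mul_left 2 hcd
  rw [pred_mul_succ w (by omega), pred_mul_succ v (by omega)] at h1
  have h2 : w ^ 2 - 1 ∣ v * (v ^ 2 - 1) := dvd_trans (Dvd.intro_left w rfl) h1
  have hw2 : w ^ 2 = p ^ (2 * a) := by rw [ha, ← pow_mul, mul_comm]
  have hv2 : v ^ 2 = p ^ (2 * b) := by rw [hb, ← pow_mul, mul_comm]
  have hpos : ∀ n : ℕ, 1 ≤ p ^ n := fun n => Nat.one_le_pow _ _ (by omega)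
  have hcop : Nat.Coprime (w ^ 2 - 1) v := by
    rw [hb]
    apply Nat.Coprime.pow_right
    rw [Nat.coprime_comm, Nat.Prime.coprime_iff_not_dvd hp, hw2]
    intro hdvd
    have h3 : p ∣ p ^ (2 * a) := dvd_pow_self p (by omega)
    have h4 : p ^ (2 * a) - 1 + 1 = p ^ (2 * a) := Nat.sub_add_cancel (hpos _)
    rw [← h4] at h3
    have h5 : p ∣ 1 := (Nat.dvd_add_right hdvd).mp h3
    have := Nat.le_of_dvd (by norm_num) h5
    omega
  have h3 : w ^ 2 - 1 ∣ v ^ 2 - 1 := Nat.Coprime.dvd_of_dvd_mul_left hcop h2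
  rw [hw2, hv2] at h3
  have h4 : Nat.gcd (p ^ (2 * a) - 1) (p ^ (2 * b) - 1) = p ^ (2 * a) - 1 :=
    Nat.gcd_eq_left h3
  rw [Nat.pow_sub_one_gcd_pow_sub_one] at h4
  have h5 : p ^ Nat.gcd (2 * a) (2 * b) = p ^ (2 * a) := by
    have e1 := hpos (Nat.gcd (2 * a) (2 * b))
    have e2 := hpos (2 * a)
    omega
  have h6 : Nat.gcd (2 * a) (2 * b) = 2 * a := Nat.pow_right_injective hp2 h5
  have h7 : 2 * a ∣ 2 * b := by rw [← h6]; exact Nat.gcd_dvd_right _ _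
  have h8 : a ∣ b := (Nat.mul_dvd_mul_iff_left (by norm_num)).mp h7
  obtain ⟨k, hk⟩ := h8
  have h9 : r = k * s := by
    have : a * r = a * (k * s) := by rw [hars, hk]; ring
    exact Nat.eq_of_mul_eq_mul_left (Nat.pos_of_ne_zero ha0) this
  have h10 : s = r := (Nat.prime_dvd_prime_iff_eq hs hr).mp (Dvd.intro_left k h9.symm)
  have hk1 : k = 1 := by
    rw [h10] at h9
    have : 1 * r = k * r := by rw [one_mul]; exact h9
    exact (Nat.eq_of_mul_eq_mul_right hr.pos this).symm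
  have hab : a = b := by rw [hk, hk1, mul_one]
  have hwv : w = v := by rw [ha, hb, hab]
  rw [hwv] at hc
  omega

theorem m5_small (c w : ℕ) (hw : 3 ≤ w) (hwodd : w % 2 = 1)
    (hc : 2 * c = w * ((w - 1) * (w + 1))) (hlt : c < 60) : w = 3 ∧ c = 12 := by
  have hw5 : w < 5 := by
    by_contra h
    have h5 : 5 ≤ w := by omega
    have : 5 * (4 * 6) ≤ w * ((w - 1) * (w + 1)) :=
      Nat.mul_le_mul h5 (Nat.mul_le_mul (by omega) (by omega))
    omega
  have : w = 3 := by omega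
  subst this
  exact ⟨rfl, by omega⟩

theorem three_pow_not_prime (r : ℕ) (hr : 2 ≤ r) (h : (3 ^ r).Prime) : False :=
  Nat.Prime.not_prime_pow hr h

end Cfsg.Agent.Lib.Helper5.PGL2Meet
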