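import Mathlib
import Cfsg.Agent.Lib.Helper5.PGL2Max.Stab

set_option autoImplicit false

/-! Element orders in `PGL₂(K)`, in dihedral groups and in small alternating groups. -/

namespace Cfsg.Agent.Lib.Helper5.PGL2Meet

open Matrix Cfsg.Agent.Lib.Helper4 Cfsg.Agent.Lib.Helper5.Mob Cfsg.Agent.Lib.Helper5.MobPGL
  Cfsg.Agent.Lib.Helper5.MobWild Cfsg.Agent.Lib.Helper5.MobRat Cfsg.Agent.Lib.Helper5.DicksonBorel
  Cfsg.Agent.Lib.Helper5.DicksonMain Cfsg.Agent.Lib.Helper5.DicksonOrders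
  Cfsg.Agent.Lib.Helper5.DicksonMax Cfsg.Agent.Lib.Helper5.PSL2Tori
  Cfsg.Agent.Lib.Helper5.PGL2Max
open scoped LinearAlgebra.Projectivization MatrixGroups

/-- the order of an element of `PGL₂(K)` divides `q (q - 1)` or is at most `q + 1` -/
theorem orderOf_dvd_or_le {K : Type*} [Field K] [Fintype K]
    (g : Matrix.ProjGenLinGroup (Fin 2) K) :
    orderOf g ∣ Fintype.card K * (Fintype.card K - 1) ∨ orderOf g ≤ Fintype.card K + 1 := by
  classical
  obtain ⟨p, hchar⟩ := CharP.exists K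
  have hpp : p.Prime := CharP.char_is_prime K p
  have : Fact p.Prime := ⟨hpp⟩
  have : CharP (AlgebraicClosure K) p :=
    charP_of_injective_algebraMap (algebraMap K (AlgebraicClosure K)).injective p
  obtain ⟨j, hj⟩ : ∃ j : K →+* AlgebraicClosure K, j = algebraMap K (AlgebraicClosure K) :=
    ⟨_, rfl⟩
  obtain ⟨φ, hφ1, hφ2, hφ3⟩ := DicksonFrob.exists_frob j p
  obtain ⟨x, hx⟩ := exists_fix ((ratIso j g : ratGroup j) : PGL(Fin 2, AlgebraicClosure K))
  have hmem : ratIso j g ∈ MulAction.stabilizer (ratGroup j) x := hx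
  have hord : orderOf g = orderOf (⟨ratIso j g, hmem⟩ : MulAction.stabilizer (ratGroup j) x) := by
    rw [← Subgroup.orderOf_coe, MulEquiv.orderOf_eq]
  have hdvd : orderOf g ∣ ee (ratGroup j) x := by
    rw [hord]; exact orderOf_dvd_natCard _
  by_cases hrat : IsRat j x
  · left
    rw [ee_R_rat j hrat] at hdvd
    exact hdvd
  · right
    have h1 := ee_R_irr_le j p φ hφ2 hφ3 hrat
    have hpos : 0 < ee (ratGroup j) x := Nat.card_pos
    exact le_trans (Nat.le_of_dvd hpos hdvd) h1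

/-- squares commute in a dihedral group -/
theorem dihedral_sq_comm (k : ℕ) (x y : DihedralGroup k) :
    (x * x) * (y * y) = (y * y) * (x * x) := by
  rcases x with i | i <;> rcases y with i' | i' <;>
    simp only [DihedralGroup.r_mul_r, DihedralGroup.sr_mul_sr] <;> congr 1 <;> ring

set_option maxRecDepth 1000000 in
/-- `S₅` has no elements of order ten or fifteen -/
theorem S5_orders : ∀ g : Equiv.Perm (Fin 5),
    (g ^ 10 = 1 → g ^ 2 = 1 ∨ g ^ 5 = 1) ∧ (g ^ 15 = 1 → g ^ 3 = 1 ∨ g ^ 5 = 1) := by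
  decide

/-- `A₄` has no subgroup of index two -/
theorem A4_no_index_two (H : Subgroup (alternatingGroup (Fin 4))) : H.index ≠ 2 := by
  intro h
  have hsq : ∀ x : alternatingGroup (Fin 4), x ^ 2 ∈ H := Subgroup.sq_mem_of_index_two h
  have hle' : ∀ σ : Equiv.Perm (Fin 4), σ.IsThreeCycle →
      σ ∈ H.map (alternatingGroup (Fin 4)).subtype := by
    intro σ hσ'
    have hmem : σ ∈ alternatingGroup (Fin 4) := hσ'.mem_alternatingGroup
    refine ⟨(⟨σ, hmem⟩ : alternatingGroup (Fin 4)), ?_, rfl⟩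
    have h3 : (⟨σ, hmem⟩ : alternatingGroup (Fin 4)) ^ 3 = 1 := by
      apply Subtype.ext
      rw [Subgroup.coe_pow]
      show σ ^ 3 = 1
      rw [← hσ'.orderOf]
      exact pow_orderOf_eq_one σ
    have h4 : (⟨σ, hmem⟩ : alternatingGroup (Fin 4)) =
        ((⟨σ, hmem⟩ : alternatingGroup (Fin 4)) ^ 2) ^ 2 := by
      rw [← pow_mul, show 2 * 2 = 3 + 1 by norm_num, pow_succ, h3, one_mul]
    have h5 : ((⟨σ, hmem⟩ : alternatingGroup (Fin 4)) ^ 2) ^ 2 ∈ H := hsq _
    rw [← h4] at h5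
    exact h5
  have hle : alternatingGroup (Fin 4) ≤ H.map (alternatingGroup (Fin 4)).subtype := by
    have hcl : Subgroup.closure {σ : Equiv.Perm (Fin 4) | σ.IsThreeCycle} ≤
        H.map (alternatingGroup (Fin 4)).subtype := by
      rw [Subgroup.closure_le]
      intro σ hσ
      exact hle' σ hσ
    rwa [Equiv.Perm.closure_three_cycles_eq_alternating] at hcl
  have htop : H = ⊤ := by
    rw [eq_top_iff]
    intro x _
    obtain ⟨y, hy, hyx⟩ := hle x.2
    have : y = x := Subtype.ext hyx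
    rwa [← this]
  rw [htop, Subgroup.index_top] at h
  omega

section transfer

variable {G : Type*} [Group G]

theorem sqComm_of_dihedral (K' : Subgroup G) (k : ℕ) (e : K' ≃* DihedralGroup k) :
    ∀ u ∈ K', ∀ v ∈ K', (u * u) * (v * v) = (v * v) * (u * u) := by
  intro u hu v hv
  have h := dihedral_sq_comm k (e ⟨u, hu⟩) (e ⟨v, hv⟩)
  rw [← map_mul, ← map_mul, ← map_mul, ← map_mul] at h
  exact congrArg Subtype.val (e.injective h)

theorem ordPGL_of_iso (K' : Subgroup G) {F₁ : Type*} [Field F₁] [Fintype F₁]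
    (e : K' ≃* Matrix.ProjGenLinGroup (Fin 2) F₁) :
    ∀ y ∈ K', orderOf y ∣ Fintype.card F₁ * (Fintype.card F₁ - 1) ∨
      orderOf y ≤ Fintype.card F₁ + 1 := by
  intro y hy
  have h := orderOf_dvd_or_le (e ⟨y, hy⟩)
  rw [MulEquiv.orderOf_eq, Subgroup.orderOf_mk] at h
  exact h

theorem noOrd_of_A5 (K' : Subgroup G) (e : K' ≃* alternatingGroup (Fin 5)) :
    ∀ y ∈ K', (y ^ 10 = 1 → y ^ 2 = 1 ∨ y ^ 5 = 1) ∧ (y ^ 15 = 1 → y ^ 3 = 1 ∨ y ^ 5 = 1) := by
  intro y hy
  obtain ⟨h1, h2⟩ := S5_orders ((e ⟨y, hy⟩ : alternatingGroup (Fin 5)) : Equiv.Perm (Fin 5))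
  have key : ∀ n : ℕ, y ^ n = 1 ↔
      ((e ⟨y, hy⟩ : alternatingGroup (Fin 5)) : Equiv.Perm (Fin 5)) ^ n = 1 := by
    intro n
    rw [← Subgroup.coe_pow, ← map_pow]
    constructor
    · intro h
      have : (⟨y, hy⟩ : K') ^ n = 1 := Subtype.ext (by rw [Subgroup.coe_pow]; exact h)
      rw [this, map_one]; rfl
    · intro h
      have h' : e ((⟨y, hy⟩ : K') ^ n) = 1 := Subtype.ext h
      have h'' : (⟨y, hy⟩ : K') ^ n = 1 := by
        rw [← e.symm_apply_apply ((⟨y, hy⟩ : K') ^ n), h', map_one]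
      have := congrArg Subtype.val h''
      rwa [Subgroup.coe_pow] at this
  simp only [key]
  exact ⟨h1, h2⟩

theorem noIdx2_of_A4 (K' : Subgroup G) [Finite K'] (e : K' ≃* alternatingGroup (Fin 4)) :
    ∀ H : Subgroup G, H ≤ K' → 2 * Nat.card H ≠ Nat.card K' := by
  intro H hH hcard
  apply A4_no_index_two ((H.subgroupOf K').map e.toMonoidHom)
  have h1 := ((H.subgroupOf K').map e.toMonoidHom).card_mul_index
  rw [Subgroup.card_map_of_injective e.injective,
    Nat.card_congr (Subgroup.subgroupOfEquivOfLe hH).toEquiv, ← Nat.card_congr e.toEquiv,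
    ← hcard, mul_comm 2] at h1
  have : Finite H := Finite.of_injective (Subgroup.inclusion hH) (Subgroup.inclusion_injective hH)
  have hpos : 0 < Nat.card H := Nat.card_pos
  exact Nat.eq_of_mul_eq_mul_left hpos h1

end transfer

end Cfsg.Agent.Lib.Helper5.PGL2Meet
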