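import Mathlib
import Cfsg.Agent.Lib.Helper5.PGL2Max.Dih5
import Cfsg.Agent.Lib.Helper5.PGL2Meet.Orders
import Cfsg.Agent.S5891
import Cfsg.Agent.S5892

set_option autoImplicit false

/-! Numerical and structural profiles of the maximal subgroups of `PGL₂(F)` and `PSL₂(F)`. -/

namespace Cfsg.Agent.Lib.Helper5.PGL2Meet

open Matrix Cfsg.Agent.Lib.Helper5.PGL2Max Cfsg.Agent.Lib.Helper5.PSL2MaxOdd
  Cfsg.Agent.Lib.Helper5.MobWild
open scoped MatrixGroups

variable {F : Type*} [Field F] [Fintype F]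

local notation "PSL2" => Matrix.ProjectiveSpecialLinearGroup (Fin 2) F
local notation "PGL2" => Matrix.ProjGenLinGroup (Fin 2) F

/-- the preimage in `PSL₂(F)` of a subgroup of `PGL₂(F)` -/
noncomputable def pre (M : Subgroup PGL2) : Subgroup PSL2 :=
  M.comap ProjectiveSpecialLinearGroup.toPGL

omit [Fintype F] in
theorem mem_pre (M : Subgroup PGL2) (y : PSL2) :
    y ∈ pre M ↔ ProjectiveSpecialLinearGroup.toPGL y ∈ M := Iff.rfl

theorem two_mul_card_pre (hodd : Odd (Fintype.card F)) (M : Subgroup PGL2) (hnle : ¬ M ≤ Lr F) :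
    2 * Nat.card (pre M) = Nat.card M := by
  have h1 : (pre M).map ProjectiveSpecialLinearGroup.toPGL = M ⊓ Lr F := by
    unfold pre Lr
    rw [Subgroup.map_comap_eq, inf_comm]
  have h2 : Nat.card ((pre M).map ProjectiveSpecialLinearGroup.toPGL) = Nat.card (pre M) :=
    Subgroup.card_map_of_injective
      (ProjectiveSpecialLinearGroup.toPGL_injective (n := Fin 2) (R := F))
  rw [← h2, h1]
  exact two_mul_card_inf_Lr hodd M hnle

/-- a dihedral subgroup of order `2 n` meets the image of `PSL₂(F)` in a subgroup containing an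
element of order `n / 2` -/
theorem exists_order_of_dihedral (hodd : Odd (Fintype.card F)) (M : Subgroup PGL2) (n : ℕ)
    (hn : Even n) (e : M ≃* DihedralGroup n) : ∃ y ∈ pre M, orderOf y = n / 2 := by
  obtain ⟨r, hrdef⟩ : ∃ r : PGL2, r = ((e.symm (DihedralGroup.r 1) : M) : PGL2) := ⟨_, rfl⟩
  have hr : orderOf r = n := by
    rw [hrdef, Subgroup.orderOf_coe, MulEquiv.orderOf_eq, DihedralGroup.orderOf_r_one]
  have hsq : r ^ 2 ∈ Lr F := Subgroup.sq_mem_of_index_two (Lr_index hodd) r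
  obtain ⟨y, hy⟩ := hsq
  refine ⟨y, ?_, ?_⟩
  · rw [mem_pre, hy, hrdef]
    exact M.pow_mem (e.symm _).2 2
  · rw [← orderOf_injective _
      (ProjectiveSpecialLinearGroup.toPGL_injective (n := Fin 2) (R := F)) y, hy,
      orderOf_pow' r (by norm_num : (2 : ℕ) ≠ 0), hr,
      Nat.gcd_eq_right (even_iff_two_dvd.mp hn)]

/-- a subgroup isomorphic to `S₄` contains two non-commuting squares of elements of its
intersection with the image of `PSL₂(F)` -/
theorem exists_noncomm_squares (hodd : Odd (Fintype.card F)) (M : Subgroup PGL2)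
    (e : M ≃* Equiv.Perm (Fin 4)) :
    ∃ u ∈ pre M, ∃ v ∈ pre M, (u * u) * (v * v) ≠ (v * v) * (u * u) := by
  classical
  have inj := ProjectiveSpecialLinearGroup.toPGL_injective (n := Fin 2) (R := F)
  have : Fact (Nat.Prime 3) := ⟨Nat.prime_three⟩
  obtain ⟨t₁, t₂, ht₁, ht₁', ht₂, ht₂', hne⟩ : ∃ t₁ t₂ : Equiv.Perm (Fin 4),
      t₁ ^ 3 = 1 ∧ t₁ ≠ 1 ∧ t₂ ^ 3 = 1 ∧ t₂ ≠ 1 ∧
      (t₁ * t₁) * (t₂ * t₂) ≠ (t₂ * t₂) * (t₁ * t₁) :=
    ⟨Equiv.swap 0 1 * Equiv.swap 1 2, Equiv.swap 0 1 * Equiv.swap 1 3,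
      by decide, by decide, by decide, by decide, by decide⟩
  have key : ∀ t : Equiv.Perm (Fin 4), t ^ 3 = 1 → t ≠ 1 →
      ∃ u ∈ pre M, ProjectiveSpecialLinearGroup.toPGL u = ((e.symm t : M) : PGL2) := by
    intro t h3 h1
    have ho : orderOf ((e.symm t : M) : PGL2) = 3 := by
      rw [Subgroup.orderOf_coe, MulEquiv.orderOf_eq]
      exact orderOf_eq_prime h3 h1
    have hL : ((e.symm t : M) : PGL2) ∈ Lr F := by
      apply mem_Lr_of_odd hodd
      rw [ho]; decide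
    obtain ⟨u, hu⟩ := hL
    exact ⟨u, by rw [mem_pre, hu]; exact (e.symm t).2, hu⟩
  obtain ⟨u, hu, hu'⟩ := key t₁ ht₁ ht₁'
  obtain ⟨v, hv, hv'⟩ := key t₂ ht₂ ht₂'
  refine ⟨u, hu, v, hv, ?_⟩
  intro h
  apply hne
  have h1 := congrArg ProjectiveSpecialLinearGroup.toPGL h
  simp only [map_mul, hu', hv'] at h1
  rw [coe_symm_mul, coe_symm_mul, coe_symm_mul, coe_symm_mul] at h1
  exact coe_symm_inj M e _ _ h1

/-- the profile of a maximal subgroup of `PGL₂(F)` not containing the image of `PSL₂(F)` -/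
theorem profile_M (hodd : Odd (Fintype.card F)) (h3 : 3 < Fintype.card F) (M : Subgroup PGL2)
    (hM : IsCoatom M)
    (hML : ¬ (Matrix.ProjGenLinGroup.mk.comp Matrix.SpecialLinearGroup.toGL).range ≤ M) :
    2 * Nat.card (pre M) = Fintype.card F * (Fintype.card F - 1) ∨
    (Fintype.card F ≠ 5 ∧ Nat.card (pre M) = Fintype.card F - 1 ∧
      ∃ y ∈ pre M, orderOf y = (Fintype.card F - 1) / 2) ∨
    (Nat.card (pre M) = Fintype.card F + 1 ∧
      ∃ y ∈ pre M, orderOf y = (Fintype.card F + 1) / 2) ∨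
    ((Fintype.card F).Prime ∧ (Fintype.card F % 8 = 3 ∨ Fintype.card F % 8 = 5) ∧
      Nat.card (pre M) = 12 ∧
      ∃ u ∈ pre M, ∃ v ∈ pre M, (u * u) * (v * v) ≠ (v * v) * (u * u)) ∨
    (∃ q₀ r : ℕ, r.Prime ∧ Odd r ∧ Fintype.card F = q₀ ^ r ∧
      2 * Nat.card (pre M) = q₀ * ((q₀ - 1) * (q₀ + 1))) := by
  have hML' : ¬ Lr F ≤ M := by rw [← range_eq_Lr]; exact hML
  have hnle := not_le_Lr M hodd hM hML'
  have hc := two_mul_card_pre hodd M hnle
  have hq2 : Fintype.card F % 2 = 1 := Nat.odd_iff.mp hodd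
  rcases Cfsg.Agent.S5891.result hodd h3 M hM hML with h | ⟨h5, ⟨e⟩⟩ | ⟨⟨e⟩⟩ | ⟨hp, h8, ⟨e⟩⟩ |
    ⟨F₀, _, _, r, hr, hro, hq, ⟨e⟩⟩
  · left
    rw [hc, h]
  · right; left
    have hcM : Nat.card M = 2 * (Fintype.card F - 1) := by
      rw [Nat.card_congr e.toEquiv, DihedralGroup.nat_card]
    refine ⟨h5, by omega, ?_⟩
    exact exists_order_of_dihedral hodd M _ (by
      rw [Nat.even_iff]; omega) e
  · right; right; left
    have hcM : Nat.card M = 2 * (Fintype.card F + 1) := by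
      rw [Nat.card_congr e.toEquiv, DihedralGroup.nat_card]
    refine ⟨by omega, ?_⟩
    exact exists_order_of_dihedral hodd M _ (by
      rw [Nat.even_iff]; omega) e
  · right; right; right; left
    have hcM : Nat.card M = 24 := by
      rw [Nat.card_congr e.toEquiv]; exact card_S4'
    exact ⟨hp, h8, by omega, exists_noncomm_squares hodd M e⟩
  · right; right; right; right
    refine ⟨Fintype.card F₀, r, hr, hro, hq, ?_⟩
    rw [hc, Nat.card_congr e.toEquiv]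
    exact card_pgl _ rfl

/-- the profile of a maximal subgroup of `PSL₂(F)` -/
theorem profile_K (p : ℕ) [Fact p.Prime] [CharP F p] (hodd : Odd (Fintype.card F))
    (h5 : 5 ≤ Fintype.card F) (K' : Subgroup PSL2) (hK : IsCoatom K') :
    2 * Nat.card K' = Fintype.card F * (Fintype.card F - 1) ∨
    (Nat.card K' = Fintype.card F - 1 ∧
      ∀ u ∈ K', ∀ v ∈ K', (u * u) * (v * v) = (v * v) * (u * u)) ∨
    (Nat.card K' = Fintype.card F + 1 ∧
      ∀ u ∈ K', ∀ v ∈ K', (u * u) * (v * v) = (v * v) * (u * u)) ∨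
    (∃ q₁ : ℕ, Fintype.card F = q₁ ^ 2 ∧ Nat.card K' = q₁ * ((q₁ - 1) * (q₁ + 1)) ∧
      ∀ y ∈ K', orderOf y ∣ q₁ * (q₁ - 1) ∨ orderOf y ≤ q₁ + 1) ∨
    (∃ q₁ s : ℕ, s.Prime ∧ Odd s ∧ Fintype.card F = q₁ ^ s ∧
      2 * Nat.card K' = q₁ * ((q₁ - 1) * (q₁ + 1))) ∨
    ((Fintype.card F % 10 = 1 ∨ Fintype.card F % 10 = 9) ∧
      (Fintype.card F = p ∨ Fintype.card F = p ^ 2) ∧ Nat.card K' = 60 ∧
      ∀ y ∈ K', (y ^ 10 = 1 → y ^ 2 = 1 ∨ y ^ 5 = 1) ∧ (y ^ 15 = 1 → y ^ 3 = 1 ∨ y ^ 5 = 1)) ∨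
    (Fintype.card F = p ∧ (p % 8 = 3 ∨ p % 8 = 5) ∧ Nat.card K' = 12 ∧
      ∀ H : Subgroup PSL2, H ≤ K' → 2 * Nat.card H ≠ Nat.card K') ∨
    (Fintype.card F = p ∧ (p % 8 = 1 ∨ p % 8 = 7) ∧ Nat.card K' = 24) := by
  classical
  have hq2 : Fintype.card F % 2 = 1 := Nat.odd_iff.mp hodd
  rcases Cfsg.Agent.S5892.result p hodd h5 K' hK with h | ⟨-, k, hk, ⟨e⟩⟩ | ⟨-, -, k, hk, ⟨e⟩⟩ |
    ⟨F₁, _, _, hq, ⟨e⟩⟩ | ⟨F₁, _, _, s, hs, hso, hq, ⟨e⟩⟩ | ⟨h10, hqp, ⟨e⟩⟩ |
    ⟨hqp, h8, -, ⟨e⟩⟩ | ⟨hqp, h8, ⟨e⟩⟩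
  · left; exact h
  · right; left
    refine ⟨?_, sqComm_of_dihedral K' k e⟩
    rw [Nat.card_congr e.toEquiv, DihedralGroup.nat_card, hk]
  · right; right; left
    refine ⟨?_, sqComm_of_dihedral K' k e⟩
    rw [Nat.card_congr e.toEquiv, DihedralGroup.nat_card, hk]
  · right; right; right; left
    refine ⟨Fintype.card F₁, hq, ?_, ordPGL_of_iso K' e⟩
    rw [Nat.card_congr e.toEquiv]
    exact card_pgl _ rfl
  · right; right; right; right; left
    refine ⟨Fintype.card F₁, s, hs, hso, hq, ?_⟩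
    rw [Nat.card_congr e.toEquiv]
    apply card_psl _ rfl
    have : Odd (Fintype.card F₁ ^ s) := by rw [← hq]; exact hodd
    exact Nat.odd_iff.mp ((Nat.odd_pow_iff hs.ne_zero).mp this)
  · right; right; right; right; right; left
    refine ⟨h10, ?_, ?_, noOrd_of_A5 K' e⟩
    · rcases hqp with h | ⟨h, -⟩
      · left; exact h
      · right; exact h
    · rw [Nat.card_congr e.toEquiv]
      have h1 := (alternatingGroup (Fin 5)).card_mul_index
      rw [alternatingGroup.index_eq_two, Nat.card_eq_fintype_card (α := Equiv.Perm (Fin 5)),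
        Fintype.card_perm, Fintype.card_fin] at h1
      have : (5 : ℕ).factorial = 120 := rfl
      omega
  · right; right; right; right; right; right; left
    have : Finite K' := Finite.of_equiv _ e.symm.toEquiv
    refine ⟨hqp, h8, ?_, noIdx2_of_A4 K' e⟩
    rw [Nat.card_congr e.toEquiv]; exact card_A4'
  · right; right; right; right; right; right; right
    refine ⟨hqp, h8, ?_⟩
    rw [Nat.card_congr e.toEquiv]; exact card_S4'

end Cfsg.Agent.Lib.Helper5.PGL2Meet
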