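import Mathlib
import Cfsg.Agent.Lib.Helper5.PGL2Meet.Profile
import Cfsg.Agent.Lib.Helper5.PGL2Meet.Arith

set_option autoImplicit false

/-! A maximal subgroup of `PGL₂(F)` not containing the image of `PSL₂(F)` meets this image in a
maximal subgroup, with a few exceptions. -/

namespace Cfsg.Agent.Lib.Helper5.PGL2Meet

open Matrix Cfsg.Agent.Lib.Helper5.PGL2Max Cfsg.Agent.Lib.Helper5.PSL2MaxOdd
open scoped MatrixGroups

variable {F : Type*} [Field F] [Fintype F]

local notation "PSL2" => Matrix.ProjectiveSpecialLinearGroup (Fin 2) F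
local notation "PGL2" => Matrix.ProjGenLinGroup (Fin 2) F

theorem noOrd_contra {G : Type*} [Group G] (y : G)
    (h : (y ^ 10 = 1 → y ^ 2 = 1 ∨ y ^ 5 = 1) ∧ (y ^ 15 = 1 → y ^ 3 = 1 ∨ y ^ 5 = 1))
    (ho : orderOf y = 10 ∨ orderOf y = 15) : False := by
  rcases ho with ho | ho
  · have h1 : y ^ 10 = 1 := by rw [← ho]; exact pow_orderOf_eq_one y
    rcases h.1 h1 with h2 | h2
    · have := orderOf_dvd_of_pow_eq_one h2
      rw [ho] at this; omega
    · have := orderOf_dvd_of_pow_eq_one h2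
      rw [ho] at this; omega
  · have h1 : y ^ 15 = 1 := by rw [← ho]; exact pow_orderOf_eq_one y
    rcases h.2 h1 with h2 | h2
    · have := orderOf_dvd_of_pow_eq_one h2
      rw [ho] at this; omega
    · have := orderOf_dvd_of_pow_eq_one h2
      rw [ho] at this; omega

/-- the main comparison -/
theorem pre_isCoatom (hodd : Odd (Fintype.card F)) (h5 : 5 ≤ Fintype.card F)
    (h7 : Fintype.card F ≠ 7) (h9 : Fintype.card F ≠ 9) (h11 : Fintype.card F ≠ 11)
    (h40 : (Fintype.card F).Prime → Fintype.card F % 40 ∉ ({11, 19, 21, 29} : Finset ℕ))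
    (M : Subgroup PGL2) (hM : IsCoatom M)
    (hML : ¬ (Matrix.ProjGenLinGroup.mk.comp Matrix.SpecialLinearGroup.toGL).range ≤ M) :
    IsCoatom (pre M) := by
  classical
  have hq2 : Fintype.card F % 2 = 1 := Nat.odd_iff.mp hodd
  have hML' : ¬ Lr F ≤ M := by rw [← range_eq_Lr]; exact hML
  have hne : pre M ≠ ⊤ := by
    intro h
    apply hML'
    rintro _ ⟨y, rfl⟩
    have : y ∈ pre M := by rw [h]; exact Subgroup.mem_top _
    exact this
  by_contra hnot
  obtain ⟨K', hK', hle⟩ := (eq_top_or_exists_le_coatom (pre M)).resolve_left hne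
  have hneK : pre M ≠ K' := fun h => hnot (h ▸ hK')
  have hcd : Nat.card (pre M) ∣ Nat.card K' := Subgroup.card_dvd_of_le hle
  have hlt : Nat.card (pre M) < Nat.card K' := by
    by_contra h
    exact hneK (Subgroup.eq_of_le_of_card_ge hle (by omega))
  have hG : 2 * Nat.card K' <
      Fintype.card F * ((Fintype.card F - 1) * (Fintype.card F + 1)) := by
    rw [← two_mul_card_PSL2 hq2]
    have : Nat.card K' < Nat.card PSL2 := by
      by_contra h
      exact hK'.1 (Subgroup.eq_top_of_le_card K' (by omega))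
    omega
  obtain ⟨p, hchar⟩ := CharP.exists F
  have hpp : p.Prime := CharP.char_is_prime F p
  have : Fact p.Prime := ⟨hpp⟩
  obtain ⟨f, -, hqp⟩ := FiniteField.card F p
  have hMp := profile_M hodd (by omega) M hM hML
  have hKp := profile_K p hodd h5 K' hK'
  obtain ⟨c, hcdef⟩ : ∃ c, c = Nat.card (pre M) := ⟨_, rfl⟩
  obtain ⟨d, hddef⟩ : ∃ d, d = Nat.card K' := ⟨_, rfl⟩
  rw [← hcdef] at hMp hcd hlt
  rw [← hddef] at hKp hcd hlt hG
  generalize Fintype.card F = q at *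
  have ht : 4 ≤ q - 1 := by omega
  have hev : (q - 1) % 2 = 0 := by omega
  have hqt : q - 1 + 1 = q := by omega
  have hq1 : q + 1 = q - 1 + 2 := by omega
  rcases hMp with hc | ⟨hq5, hc, y, hy, hyo⟩ | ⟨hc, y, hy, hyo⟩ |
    ⟨hqpr, h8, hc, u, hu, v, hv, hnc⟩ | ⟨w, r, hr, hro, hqw, hc⟩
  · -- point stabilisers
    have hc' : 2 * c = (q - 1 + 1) * (q - 1) := by rw [hqt]; exact hc
    rcases hKp with hd | ⟨hd, hsq⟩ | ⟨hd, hsq⟩ | ⟨v, hqv, hd, hord⟩ | ⟨v, s, hs, hso, hqv, hd⟩ |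
      ⟨h10, hqp', hd, hno⟩ | ⟨hqp', h8', hd, hidx⟩ | ⟨hqp', h8', hd⟩
    · omega
    · exact m1_k2 (q - 1) c d ht hc' hd hlt
    · exact m1_k3 (q - 1) c d ht hc' (by omega) hlt
    · exact m1_k4 (q - 1) c d v ht (by rw [hqt]; exact hqv) hc' hd hlt
    · exact m1_k5 (q - 1) c d v s ht (by
        rcases hso with ⟨k, hk⟩
        have := hs.two_le
        omega) (by rw [hqt]; exact hqv) hc' hd hlt
    · exact m1_k6 (q - 1) c d ht hev (by omega) (by omega) (by omega) hc' hd hlt (by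
        rw [hqt, ← hq1]; exact hG)
    · exact m1_k7 (q - 1) c d ht hev hc' hd hcd hlt
    · exact m1_k8 (q - 1) c d ht hev (by omega) hc' hd hcd hlt
  · -- dihedral subgroups of order `2 (q - 1)`
    rcases hKp with hd | ⟨hd, hsq⟩ | ⟨hd, hsq⟩ | ⟨v, hqv, hd, hord⟩ | ⟨v, s, hs, hso, hqv, hd⟩ |
      ⟨h10, hqp', hd, hno⟩ | ⟨hqp', h8', hd, hidx⟩ | ⟨hqp', h8', hd⟩
    · exact m2_k1 (q - 1) c d ht hev hc (by rw [hqt]; exact hd) hcd
    · omega
    · exact m2_k3 (q - 1) c d ht hc (by omega) hcd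
    · have h := hord y (hle hy)
      rw [hyo] at h
      exact m2_k4 (q - 1) v ((q - 1) / 2) ht (by omega) (by omega) (by rw [hqt]; exact hqv) rfl h
    · exact m2_k5 (q - 1) c d v s ht (by
        rcases hso with ⟨k, hk⟩
        have := hs.two_le
        omega) (by rw [hqt]; exact hqv) (by omega) hd hlt
    · have h := m2_k6 (q - 1) ht hev (by omega) (by rw [hqt]; exact h10) (by
        rw [← hc, ← hd]; exact hcd) (by omega)
      exact noOrd_contra y (hno y (hle hy)) (by rw [hyo]; exact h)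
    · exact m2_k7 (q - 1) ht hev (by omega) (by omega) (by
        rw [← hc, ← hd]; exact hcd) (by omega)
    · exact m2_k8 (q - 1) ht hev (by omega) (by omega) (by omega) (by
        rw [hqt, hqp']; exact h8') (by rw [← hc, ← hd]; exact hcd) (by omega)
  · -- dihedral subgroups of order `2 (q + 1)`
    rcases hKp with hd | ⟨hd, hsq⟩ | ⟨hd, hsq⟩ | ⟨v, hqv, hd, hord⟩ | ⟨v, s, hs, hso, hqv, hd⟩ |
      ⟨h10, hqp', hd, hno⟩ | ⟨hqp', h8', hd, hidx⟩ | ⟨hqp', h8', hd⟩
    · exact m3_k1 (q - 1) c d ht (by omega) (by rw [hqt]; exact hd) hcd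
    · omega
    · omega
    · exact m3_k4 (q - 1) c d v ht (by rw [hqt]; exact hqv) (by omega) hd hcd
    · exact m2_k5 (q - 1) c d v s ht (by
        rcases hso with ⟨k, hk⟩
        have := hs.two_le
        omega) (by rw [hqt]; exact hqv) (by omega) hd hlt
    · have h := m3_k6 (q - 1) ht hev (by omega) (by omega) (by rw [hqt]; exact h10) (by
        rw [← hq1, ← hc, ← hd]; exact hcd) (by omega)
      exact noOrd_contra y (hno y (hle hy)) (by rw [hyo, hq1]; exact h)
    · have h := m3_k7 (q - 1) ht hev (by rw [← hq1, ← hc, ← hd]; exact hcd) (by omega)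
      exact hidx (pre M) hle (by rw [← hcdef]; omega)
    · exact m3_k8 (q - 1) ht hev (by omega) (by rw [hqt, hqp']; exact h8') (by
        rw [← hq1, ← hc, ← hd]; exact hcd) (by omega)
  · -- octahedral subgroups
    rcases hKp with hd | ⟨hd, hsq⟩ | ⟨hd, hsq⟩ | ⟨v', hqv, hd, hord⟩ |
      ⟨v', s, hs, hso, hqv, hd⟩ | ⟨h10, hqp', hd, hno⟩ | ⟨hqp', h8', hd, hidx⟩ | ⟨hqp', h8', hd⟩
    · exact m4_k1 (q - 1) d (by rw [hqt]; exact h8) (by rw [hqt]; exact hd) (by
        rw [← hc]; exact hcd)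
    · exact hnc (hsq u (hle hu) v (hle hv))
    · exact hnc (hsq u (hle hu) v (hle hv))
    · rw [hqv] at hqpr
      exact Nat.Prime.not_prime_pow (le_refl 2) hqpr
    · rw [hqv] at hqpr
      exact Nat.Prime.not_prime_pow hs.two_le hqpr
    · exact m4_k6 q h8 h10 (h40 hqpr)
    · omega
    · rw [hqp'] at h8; omega
  · -- subfield subgroups
    have hw2 : 2 ≤ w := two_le_of_pow q w r h5 hr.ne_zero hqw
    have hwodd : w % 2 = 1 := odd_of_pow q w r hq2 hr.ne_zero hqw
    have hr3 : 3 ≤ r := by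
      rcases hro with ⟨k, hk⟩
      have := hr.two_le
      omega
    rcases hKp with hd | ⟨hd, hsq⟩ | ⟨hd, hsq⟩ | ⟨v, hqv, hd, hord⟩ | ⟨v, s, hs, hso, hqv, hd⟩ |
      ⟨h10, hqp', hd, hno⟩ | ⟨hqp', h8', hd, hidx⟩ | ⟨hqp', h8', hd⟩
    · exact m5_k1 q c d w r hw2 hro hqw hc hd hcd
    · exact m5_k23 q c d w r hw2 hwodd hr.ne_zero hqw hc (Or.inl (by omega)) hcd
    · exact m5_k23 q c d w r hw2 hwodd hr.ne_zero hqw hc (Or.inr hd) hcd
    · exact m5_k4 q c d w r v hw2 hwodd hro hqw hqv hc hd hcd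
    · exact m5_k5 p f q c d w r v s hpp hqp hw2 (two_le_of_pow q v s h5 hs.ne_zero hqv) hr hs hqw
        hqv hc hd hcd hlt
    · obtain ⟨hw3, hc12⟩ := m5_small c w (by omega) hwodd hc (by omega)
      rw [hw3] at hqw
      rcases hqp' with h | h
      · rw [hqw] at h
        exact three_pow_not_prime r (by omega) (h ▸ hpp)
      · exact three_pow_ne_sq r p hro (by rw [← hqw, h])
    · obtain ⟨hw3, hc12⟩ := m5_small c w (by omega) hwodd hc (by omega)
      omega
    · obtain ⟨hw3, hc12⟩ := m5_small c w (by omega) hwodd hc (by omega)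
      rw [hw3] at hqw
      rw [hqw] at hqp'
      exact three_pow_not_prime r (by omega) (hqp' ▸ hpp)

end Cfsg.Agent.Lib.Helper5.PGL2Meet
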