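import Mathlib
import Cfsg.Agent.Lib.Helper5.PGL2Meet.Main

set_option autoImplicit false

/-! Transfer of maximality to the intersection with the range; the case of even `q`. -/

namespace Cfsg.Agent.Lib.Helper5.PGL2Meet

open Matrix Cfsg.Agent.Lib.Helper5.PGL2Max
open scoped MatrixGroups

/-- maximality of a preimage under an injective homomorphism gives maximality of the intersection
with the range, inside the range -/
theorem isCoatom_subgroupOf_of_comap {G H : Type*} [Group G] [Group H] (φ : H →* G)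
    (hφ : Function.Injective φ) (M R : Subgroup G) (hR : R = φ.range)
    (h : IsCoatom (M.comap φ)) : IsCoatom ((M ⊓ R).subgroupOf R) := by
  subst hR
  have e : (MonoidHom.ofInjective hφ).comapSubgroup ((M ⊓ φ.range).subgroupOf φ.range) =
      M.comap φ := by
    ext y
    show (⟨φ y, _⟩ : φ.range) ∈ (M ⊓ φ.range).subgroupOf φ.range ↔ φ y ∈ M
    rw [Subgroup.mem_subgroupOf]
    constructor
    · intro h1; exact h1.1
    · intro h1; exact ⟨h1, ⟨y, rfl⟩⟩
  rw [← e] at h
  exact ((MonoidHom.ofInjective hφ).comapSubgroup.isCoatom_iff _).mp h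

/-- for even `q` the image of `PSL₂(F)` is everything -/
theorem pre_isCoatom_even {F : Type*} [Field F] [Fintype F] (heven : Even (Fintype.card F))
    (M : Subgroup (Matrix.ProjGenLinGroup (Fin 2) F)) (hM : IsCoatom M) : IsCoatom (pre M) := by
  have hq1 : 1 ≤ Fintype.card F := Fintype.card_pos
  have hidx : (Lr F).index = 1 := by
    unfold Lr
    rw [Cfsg.Agent.Lib.Helper5.PGLOrders.index_range_toPGL]
    have h1 : Nat.gcd 2 (Fintype.card F - 1) ∣ 2 := Nat.gcd_dvd_left _ _
    have h2 : Nat.gcd 2 (Fintype.card F - 1) ∣ Fintype.card F - 1 := Nat.gcd_dvd_right _ _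
    rcases (Nat.dvd_prime Nat.prime_two).mp h1 with h | h
    · exact h
    · exfalso
      rw [h] at h2
      rcases heven with ⟨k, hk⟩
      omega
  have htop : Lr F = ⊤ := Subgroup.index_eq_one.mp hidx
  have hsurj : Function.Surjective (ProjectiveSpecialLinearGroup.toPGL (n := Fin 2) (R := F)) := by
    rw [← MonoidHom.range_eq_top]; exact htop
  obtain ⟨ψ, hψ⟩ : ∃ ψ : Matrix.ProjectiveSpecialLinearGroup (Fin 2) F ≃*
      Matrix.ProjGenLinGroup (Fin 2) F, ∀ y, ψ y = ProjectiveSpecialLinearGroup.toPGL y :=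
    ⟨MulEquiv.ofBijective ProjectiveSpecialLinearGroup.toPGL
      ⟨ProjectiveSpecialLinearGroup.toPGL_injective, hsurj⟩, fun y => rfl⟩
  have e : ψ.comapSubgroup M = pre M := by
    ext y
    show ψ y ∈ M ↔ _
    rw [hψ]; rfl
  rw [← e]
  exact (ψ.comapSubgroup.isCoatom_iff M).mpr hM

end Cfsg.Agent.Lib.Helper5.PGL2Meet
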